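import Cfsg.Agent.Helper77.Br43.PGDefs
import Cfsg.Agent.S1230

/-!
# S0996, layer L6b: the `SL₂(2^m)` configuration is `PSL(2, 2^m)` (via S1230).
-/

set_option autoImplicit false

namespace Cfsg.Agent.Helper77.BrPG

universe u

variable {G : Type u} [Group G] [Finite G]

/-- the conjugacy class of `x` has `|G| / |C_G(x)|` elements; here as an inequality for a normal
subgroup `S` containing `x`: `|G| ≤ |C_G(x)| * (|S| - 1)`. -/
theorem card_le_of_normal (S : Subgroup G) (hS : S.Normal) (x : G) (hx : x ∈ S) (hx1 : x ≠ 1) :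
    Nat.card G ≤ Nat.card (Subgroup.centralizer ({x} : Set G)) * (Nat.card S - 1) := by
  classical
  have h1 : (MulAction.stabilizer (ConjAct G) x).index = (MulAction.orbit (ConjAct G) x).ncard :=
    MulAction.index_stabilizer (ConjAct G) x
  have h2 := Subgroup.card_mul_index (MulAction.stabilizer (ConjAct G) x)
  have h3 : Nat.card (ConjAct G) = Nat.card G := rfl
  have h4 := Subgroup.nat_card_centralizer_nat_card_stabilizer x
  have h5 : (MulAction.orbit (ConjAct G) x).ncard ≤ Nat.card S - 1 := by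
    have hsub : MulAction.orbit (ConjAct G) x ⊆ ((S : Set G) \ {1}) := by
      rintro y ⟨g, rfl⟩
      refine ⟨?_, ?_⟩
      · show g • x ∈ S
        rw [ConjAct.smul_def]
        exact hS.conj_mem x hx _
      · intro h
        apply hx1
        have : g • x = 1 := h
        rw [ConjAct.smul_def] at this
        have h' := congrArg (fun y => (ConjAct.ofConjAct g)⁻¹ * y * ConjAct.ofConjAct g) this
        simpa [mul_assoc] using h'
    have hfin : ((S : Set G) \ {1}).Finite := Set.toFinite _
    calc (MulAction.orbit (ConjAct G) x).ncard ≤ ((S : Set G) \ {1}).ncard :=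
          Set.ncard_le_ncard hsub hfin
      _ = (S : Set G).ncard - 1 := by
          rw [Set.ncard_sdiff_singleton_of_mem (S.one_mem)]
      _ = Nat.card S - 1 := by
          rw [← Nat.card_coe_set_eq]; rfl
  rw [← h3, ← h2, h1, ← h4]
  exact Nat.mul_le_mul_left _ h5


omit [Finite G] in
/-- an elementary abelian 2-subgroup is commutative -/
theorem commute_of_sq_eq_one (S : Subgroup G) (hexp : ∀ x ∈ S, x ^ 2 = 1) (a b : G) (ha : a ∈ S)
    (hb : b ∈ S) : a * b = b * a := by
  have h1 := hexp a ha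
  have h2 := hexp b hb
  have h3 := hexp (a * b) (S.mul_mem ha hb)
  have ha' : a⁻¹ = a := by
    rw [inv_eq_iff_mul_eq_one, ← pow_two]; exact h1
  have hb' : b⁻¹ = b := by
    rw [inv_eq_iff_mul_eq_one, ← pow_two]; exact h2
  have hab : (a * b)⁻¹ = a * b := by
    rw [inv_eq_iff_mul_eq_one, ← pow_two]; exact h3
  rw [mul_inv_rev, ha', hb'] at hab
  exact hab.symm

/-- (L6b) the `SL₂(2^m)` configuration is `PSL(2, 2^m)`, by S1230 -/
theorem psl_of_isSL2Cfg {p : ℕ} (hp : p.Prime) (hp3 : 3 < p) (h : IsSL2Cfg p G) :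
    ∃ (m : ℕ) (F : Type) (_ : Field F) (_ : Fintype F), Fintype.card F = 2 ^ m ∧ p = 2 ^ m + 1 ∧
      Nonempty (G ≃* Matrix.ProjectiveSpecialLinearGroup (Fin 2) F) := by
  classical
  obtain ⟨hG, S, hS, hexp, hcent, hconj⟩ := h
  have hS2 : IsPGroup 2 S := by
    intro g
    refine ⟨1, ?_⟩
    have := hexp g.1 g.2
    ext
    simpa using this
  obtain ⟨m, hm⟩ := IsPGroup.iff_card.mp hS2
  have hpm : p = 2 ^ m + 1 := by omega
  have hodd : Odd p := hp.odd_of_ne_two (by omega)
  have hodd2 : Odd (p - 2) := by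
    obtain ⟨r, hr⟩ := hodd
    exact ⟨r - 1, by omega⟩
  obtain ⟨T, hST⟩ := hS2.exists_le_sylow
  have hTS : (T : Subgroup G) = S := by
    obtain ⟨k, hk⟩ := IsPGroup.iff_card.mp T.isPGroup'
    have hdvd : Nat.card (T : Subgroup G) ∣ Nat.card G := Subgroup.card_subgroup_dvd_card _
    have hcop : Nat.Coprime (2 ^ k) (p * (p - 2)) := by
      apply Nat.Coprime.pow_left
      rw [Nat.coprime_two_left]
      exact hodd.mul hodd2
    have hG' : Nat.card G = (p * (p - 2)) * 2 ^ m := by
      rw [hG, ← hm, hS]; ring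
    have h2 : 2 ^ k ∣ 2 ^ m := by
      have : 2 ^ k ∣ (p * (p - 2)) * 2 ^ m := by
        rw [← hG']
        have hk' : Nat.card (T : Subgroup G) = 2 ^ k := hk
        rw [← hk']; exact hdvd
      exact hcop.dvd_of_dvd_mul_left this
    have hle : Nat.card (T : Subgroup G) ≤ Nat.card S := by
      have hk' : Nat.card (T : Subgroup G) = 2 ^ k := hk
      rw [hk', hm]
      exact Nat.le_of_dvd (by positivity) h2
    exact (Subgroup.eq_of_le_of_card_ge hST hle).symm
  have hS4 : 4 ≤ Nat.card S := by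
    obtain ⟨r, hr⟩ := hodd
    omega
  have hnc : ¬ IsCyclic (T : Subgroup G) := by
    rw [hTS]
    intro hcyc
    obtain ⟨g, hg⟩ := hcyc.exists_generator
    have h1 : orderOf g = Nat.card S := orderOf_eq_card_of_forall_mem_zpowers hg
    have h2 : g ^ 2 = 1 := by
      have := hexp g.1 g.2
      ext
      simpa using this
    have h3 : orderOf g ≤ 2 := Nat.le_of_dvd (by norm_num) (orderOf_dvd_of_pow_eq_one h2)
    omega
  obtain ⟨x, hxS, hx1⟩ : ∃ x ∈ S, x ≠ 1 := by
    by_contra hcon
    push Not at hcon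
    have : S = ⊥ := by
      rw [Subgroup.eq_bot_iff_forall]
      exact hcon
    rw [this, Subgroup.card_bot] at hS4
    omega
  have hnn : ¬ (T : Subgroup G).Normal := by
    rw [hTS]
    intro hnorm
    have h1 := card_le_of_normal S hnorm x hxS hx1
    rw [hcent x hxS hx1, hG, hS] at h1
    have h0 : p - 1 - 1 = p - 2 := by omega
    rw [h0, mul_assoc] at h1
    have hA : 0 < (p - 1) * (p - 2) := Nat.mul_pos (by omega) (by omega)
    nlinarith
  have hC : ∀ t : G, orderOf t = 2 → IsMulCommutative (Subgroup.centralizer ({t} : Set G)) ∧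
      ∀ c ∈ Subgroup.centralizer ({t} : Set G), c ^ 2 = 1 := by
    intro t ht
    have ht2 : IsPGroup 2 (Subgroup.zpowers t) := by
      apply IsPGroup.of_card (n := 1)
      rw [Nat.card_zpowers, ht, pow_one]
    obtain ⟨T', hT'⟩ := ht2.exists_le_sylow
    obtain ⟨g, hg⟩ := MulAction.exists_smul_eq G T' T
    have htS : g * t * g⁻¹ ∈ S := by
      rw [← hTS, ← hg]
      have : t ∈ (T' : Subgroup G) := hT' (Subgroup.mem_zpowers t)
      show g * t * g⁻¹ ∈ ((g • T' : Sylow 2 G) : Subgroup G)
      rw [Sylow.coe_subgroup_smul]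
      have h := Subgroup.smul_mem_pointwise_smul t (MulAut.conj g) (T' : Subgroup G) this
      rwa [MulAut.smul_def, MulAut.conj_apply] at h
    have ht1 : g * t * g⁻¹ ≠ 1 := by
      intro h
      have : t = 1 := by
        have h' := congrArg (fun y => g⁻¹ * y * g) h
        simpa [mul_assoc] using h'
      rw [this, orderOf_one] at ht
      omega
    have hcen := hcent _ htS ht1
    have hmem : ∀ c ∈ Subgroup.centralizer ({t} : Set G), g * c * g⁻¹ ∈ S := by
      intro c hc
      rw [← hcen, Subgroup.mem_centralizer_singleton_iff]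
      rw [Subgroup.mem_centralizer_singleton_iff] at hc
      calc g * c * g⁻¹ * (g * t * g⁻¹) = g * (c * t) * g⁻¹ := by group
        _ = g * (t * c) * g⁻¹ := by rw [hc]
        _ = g * t * g⁻¹ * (g * c * g⁻¹) := by group
    refine ⟨⟨⟨?_⟩⟩, ?_⟩
    · rintro ⟨a, ha⟩ ⟨b, hb⟩
      apply Subtype.ext
      show a * b = b * a
      have := commute_of_sq_eq_one S hexp _ _ (hmem a ha) (hmem b hb)
      have h' := congrArg (fun y => g⁻¹ * y * g) this
      simpa [mul_assoc] using h'
    · intro c hc
      have := hexp _ (hmem c hc)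
      have h' : g * c ^ 2 * g⁻¹ = 1 := by
        rw [← this, conj_pow]
      have h'' := congrArg (fun y => g⁻¹ * y * g) h'
      simpa [mul_assoc] using h''
  obtain ⟨F, hF1, hF2, hcard, hiso⟩ := Cfsg.Agent.S1230.result T hnc hnn hC
  refine ⟨m, F, hF1, hF2, ?_, hpm, hiso⟩
  rw [hcard]
  have : Nat.card (T : Subgroup G) = Nat.card S := by rw [hTS]
  exact this.trans hm

end Cfsg.Agent.Helper77.BrPG
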