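import Cfsg.Agent.Helper77.Br43.PGDefs
import Cfsg.Agent.Helper75.SelfCent

/-!
# S0996, layer L1/L7a: the Sylow subgroup `P = ⟨z⟩`, `|N_G(P)| = p e`, `e ≥ 2`, `e ∣ p - 1`,
`|Syl_p G| = 1 + n p`, `n ≥ 1` (perfect group with a self-centralizing element of order `p`).
-/

set_option autoImplicit false

namespace Cfsg.Agent.Helper77.BrPG

open Cfsg.Agent.Helper75

universe u

variable {G : Type u} [Group G] [Finite G] {p : ℕ} [Fact p.Prime]

theorem setup (hperf : commutator G = ⊤) (z : G) (hz : orderOf z = p)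
    (hC : Subgroup.centralizer ({z} : Set G) = Subgroup.zpowers z) :
    ∃ (P : Sylow p G) (e n : ℕ), (P : Subgroup G) = Subgroup.zpowers z ∧ Nat.card P = p ∧
      Subgroup.centralizer ((P : Subgroup G) : Set G) = (P : Subgroup G) ∧
      Nat.card (Nz P) = p * e ∧ 2 ≤ e ∧ e ∣ p - 1 ∧ Nat.card (Sylow p G) = 1 + n * p ∧ 1 ≤ n ∧
      p ≠ 2 := by
  classical
  have hp : p.Prime := Fact.out
  set P : Sylow p G := scSylow hp hz hC with hPdef
  have hPz : (P : Subgroup G) = Subgroup.zpowers z := rfl
  have hcardP : Nat.card P = p := by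
    show Nat.card (Subgroup.zpowers z) = p
    rw [Nat.card_zpowers, hz]
  have hcen : Subgroup.centralizer ((P : Subgroup G) : Set G) = (P : Subgroup G) := by
    rw [hPz]
    apply le_antisymm
    · intro g hg
      rw [← hC, Subgroup.mem_centralizer_singleton_iff]
      exact (hg z (Subgroup.mem_zpowers z)).symm
    · intro g hg y hy
      obtain ⟨i, rfl⟩ := Subgroup.mem_zpowers_iff.mp hg
      obtain ⟨j, rfl⟩ := Subgroup.mem_zpowers_iff.mp hy
      exact (Commute.zpow_zpow_self z j i).eq
  set e := (Subgroup.zpowers z).relIndex (Subgroup.normalizer (Subgroup.zpowers z : Set G)) with hedef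
  have hle : Subgroup.zpowers z ≤ Subgroup.normalizer (Subgroup.zpowers z : Set G) :=
    Subgroup.le_normalizer
  have hcardN : Nat.card (Nz P) = p * e := by
    show Nat.card (Subgroup.normalizer (Subgroup.zpowers z : Set G)) = p * e
    have h1 := Subgroup.card_mul_index ((Subgroup.zpowers z).subgroupOf
      (Subgroup.normalizer (Subgroup.zpowers z : Set G)))
    rw [← h1]
    congr 1
    rw [Nat.card_congr (Subgroup.subgroupOfEquivOfLe hle).toEquiv, Nat.card_zpowers, hz]
  have hcount := sc_class_count hp hz hC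
  have hedvd : e ∣ p - 1 := Dvd.intro_left _ hcount
  have he0 : e ≠ 0 := by
    intro h0
    rw [← hedef, h0, mul_zero] at hcount
    have := hp.two_le
    omega
  have he1 : e ≠ 1 := by
    intro h1
    obtain ⟨hidx, _⟩ := sc_commutator_of_relIndex_eq_one hp hz hC h1
    rw [hperf, Subgroup.index_top] at hidx
    exact hp.one_lt.ne hidx
  have he2 : 2 ≤ e := by omega
  have hmod : Nat.card (Sylow p G) ≡ 1 [MOD p] := card_sylow_modEq_one p G
  have hpos : 0 < Nat.card (Sylow p G) := Nat.card_pos
  obtain ⟨n, hn⟩ : ∃ n, Nat.card (Sylow p G) = 1 + n * p := by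
    have h1 : p ∣ Nat.card (Sylow p G) - 1 := (Nat.modEq_iff_dvd' hpos).mp hmod.symm
    obtain ⟨n, hn⟩ := h1
    exact ⟨n, by rw [mul_comm n p, ← hn]; omega⟩
  have hp2 : p ≠ 2 := by
    intro h2
    have := Nat.le_of_dvd (by have := hp.two_le; omega) hedvd
    omega
  refine ⟨P, e, n, hPz, hcardP, hcen, hcardN, he2, hedvd, hn, ?_, hp2⟩
  by_contra hn0
  have hn0' : n = 0 := by omega
  rw [hn0', zero_mul, add_zero] at hn
  -- `P` is normal, so `N = G`, and `G' ≤ P`
  have hidx : (Subgroup.normalizer ((P : Subgroup G) : Set G)).index = 1 := by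
    rw [← hn]
    exact (Sylow.card_eq_index_normalizer P).symm
  rw [Subgroup.index_eq_one] at hidx
  have hNtop : Subgroup.normalizer (Subgroup.zpowers z : Set G) = ⊤ := hidx
  have hcomm : commutator G ≤ Subgroup.zpowers z := by
    rw [commutator_def, Subgroup.commutator_le]
    intro a _ b _
    exact sc_commutator_normalizer hC (by rw [hNtop]; trivial) (by rw [hNtop]; trivial)
  rw [hperf, top_le_iff] at hcomm
  have : e = 1 := by
    rw [hedef, hcomm]
    simp
  exact he1 this

end Cfsg.Agent.Helper77.BrPG
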