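import Cfsg.Agent.Helper77.Br43.PG
import Cfsg.Agent.Helper77.Br43.RecogSL2
import Cfsg.Agent.Helper77.Br43.Setup
import Cfsg.Agent.Helper82.Brauer43.RecogPSL2p
import Cfsg.Agent.Helper16.Brauer43.L3x
import Cfsg.Agent.Helper16.Brauer43.L3t
import Cfsg.Agent.Helper82.Brauer43.CharSidePM

/-!
# S0996 (Brauer 1943): `brauer_core` (everything below CONFIG) and the final theorem.
-/

set_option autoImplicit false

namespace Cfsg.Agent.Helper77.BrPG

open Cfsg Cfsg.Agent.Helper16 Cfsg.Agent.Helper16.DefOne Cfsg.Agent.Helper82.DefOne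
  Cfsg.Agent.Helper16.Brauer43
open scoped Pointwise

universe u

section core

variable {G : Type u} [Group G] [Fintype G] {p : ℕ} [Fact p.Prime]
  (P : Sylow p G) [Fintype (P : Subgroup G)] (D : L0Data P)

/-! ### the character side (helper82), restated with helper16's `ConfigConcl` -/

theorem eps_plus (hperf : commutator G = ⊤) (hP : Nat.card P = p)
    (hC : cen P = (P : Subgroup G)) (n t : ℕ) (hs : (nor P).index = 1 + n * p) (hn1 : 1 ≤ n)
    (hte : t * (cen P).relIndex (nor P) = p - 1) (ht : 2 ≤ t) (hcfg : ConfigConcl P D n t)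
    (hδ : D.δ = 1) : n = 1 ∧ t = 2 :=
  Cfsg.Agent.Helper82.Brauer43.char_side_plus P D hP hC hperf n t hs hn1 hte ht hcfg hδ

theorem rank_sum (hperf : commutator G = ⊤) (hP : Nat.card P = p)
    (hC : cen P = (P : Subgroup G)) (n t : ℕ) (hs : (nor P).index = 1 + n * p) (hn1 : 1 ≤ n)
    (hte : t * (cen P).relIndex (nor P) = p - 1) (ht : 2 ≤ t) (hcfg : ConfigConcl P D n t)
    (hδ : D.δ = -1) :
    ∑ᶠ g : G, Nat.card ↥(Nz P ⊓ MulAut.conj g • Nz P) =
      (n + 1) * (p * (cen P).relIndex (nor P)) ^ 2 :=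
  (Cfsg.Agent.Helper82.Brauer43.char_side_minus P D hP hC hperf n t hs hn1 hte ht hcfg hδ).2

/-! ### the core -/

omit [Fintype (P : Subgroup G)] [Fintype G] [Fact p.Prime] in
theorem nor_eq_Nz (hC : cen P = (P : Subgroup G)) : nor P = Nz P := by
  show Subgroup.normalizer ((cen P : Subgroup G) : Set G) = _
  rw [hC]

omit [Fintype (P : Subgroup G)] in
/-- Burnside: `e ≥ 2` in a perfect group -/
theorem two_le_relIndex (hperf : commutator G = ⊤) (hP : Nat.card P = p)
    (hC : cen P = (P : Subgroup G)) : 2 ≤ (cen P).relIndex (nor P) := by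
  have hp : p.Prime := Fact.out
  obtain ⟨x, hx, hx1⟩ : ∃ x ∈ (P : Subgroup G), x ≠ 1 := by
    by_contra hcon
    push Not at hcon
    have : (P : Subgroup G) = ⊥ := by
      rw [Subgroup.eq_bot_iff_forall]; exact hcon
    have h1 : Nat.card (P : Subgroup G) = 1 := by rw [this, Subgroup.card_bot]
    have h2 : Nat.card (P : Subgroup G) = p := hP
    have := hp.one_lt
    omega
  have hz := Cfsg.Agent.Helper5.BrPG.zpowers_eq_of_card P hP x hx hx1
  have hcx := Cfsg.Agent.Helper5.BrPG.centralizer_singleton_eq P hP hC x hx hx1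
  have hox : orderOf x = p := by
    rw [← Nat.card_zpowers, hz]; exact hP
  have hCx : Subgroup.centralizer ({x} : Set G) = Subgroup.zpowers x := by rw [hcx, hz]
  have hrel : (cen P).relIndex (nor P) =
      (Subgroup.zpowers x).relIndex (Subgroup.normalizer (Subgroup.zpowers x : Set G)) := by
    rw [nor_eq_Nz P hC, hC, hz]
  have hcount := Cfsg.Agent.Helper75.sc_class_count hp hox hCx
  rw [← hrel] at hcount
  have h0 : (cen P).relIndex (nor P) ≠ 0 := by
    intro h0
    rw [h0, mul_zero] at hcount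
    have := hp.two_le
    omega
  have h1 : (cen P).relIndex (nor P) ≠ 1 := by
    intro h1
    rw [hrel] at h1
    obtain ⟨hidx, _⟩ := Cfsg.Agent.Helper75.sc_commutator_of_relIndex_eq_one hp hox hCx h1
    rw [hperf, Subgroup.index_top] at hidx
    exact hp.one_lt.ne hidx
  omega

/-- **Brauer 1943, core**: everything below CONFIG. -/
theorem brauer_core (hperf : commutator G = ⊤) (hP : Nat.card P = p)
    (hC : cen P = (P : Subgroup G)) (n t : ℕ) (hs : (nor P).index = 1 + n * p) (hn1 : 1 ≤ n)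
    (hte : t * (cen P).relIndex (nor P) = p - 1) (ht : 2 ≤ t) (hcfg : ConfigConcl P D n t) :
    (3 < p ∧ Nonempty (G ≃* Matrix.ProjectiveSpecialLinearGroup (Fin 2) (ZMod p))) ∨
    (∃ (m : ℕ) (F : Type) (_ : Field F) (_ : Fintype F), Fintype.card F = 2 ^ m ∧
      p = 2 ^ m + 1 ∧ 3 < p ∧ Nonempty (G ≃* Matrix.ProjectiveSpecialLinearGroup (Fin 2) F)) := by
  classical
  have hp : p.Prime := Fact.out
  set e := (cen P).relIndex (nor P) with hedef
  have he2 : 2 ≤ e := two_le_relIndex P hperf hP hC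
  have hcen : Subgroup.centralizer ((P : Subgroup G) : Set G) = (P : Subgroup G) := hC
  have hN : Nat.card (Nz P) = p * e := by
    have h3 : Nat.card (cen P) = p := by rw [hC]; exact hP
    rw [← nor_eq_Nz P hC, card_nor_eq P, h3, mul_comm]
  have hS : Nat.card (Sylow p G) = 1 + n * p := by
    rw [Sylow.card_eq_index_normalizer P, ← hs, nor_eq_Nz P hC]
    rfl
  have hodd : p ≠ 2 := by
    intro h2
    have h3 : t * e = 1 := by rw [hte, h2]
    have := Nat.eq_one_of_mul_eq_one_left h3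
    omega
  have hpsl : n = 1 → 2 * e = p - 1 →
      (3 < p ∧ Nonempty (G ≃* Matrix.ProjectiveSpecialLinearGroup (Fin 2) (ZMod p))) := by
    intro h1 h2
    have hs' : Nat.card (Sylow p G) = p + 1 := by rw [hS, h1]; ring
    exact Cfsg.Agent.Helper82.Brauer43.recog_psl2p hperf p P hP hcen hs' e hN h2 he2
  have hcfg' := hcfg
  obtain ⟨_, _, _, hδ | hδ⟩ := hcfg'
  · obtain ⟨hδ1, _⟩ := hδ
    obtain ⟨h1, h2⟩ := eps_plus P D hperf hP hC n t hs hn1 hte ht hcfg hδ1
    subst h2
    exact Or.inl (hpsl h1 hte)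
  · obtain ⟨hδ1, a, hat, _, _, hek, _⟩ := hδ
    have hsum := rank_sum P D hperf hP hC n t hs hn1 hte ht hcfg hδ1
    have hBr := isBr_of_sum P e n hodd hP hcen hN he2 hS hn1 hsum
    rcases hBr.main a t (Nat.card D.Xplus) hat hte hek with ⟨h1, h2⟩ | ⟨h3, hcfg2⟩
    · exact Or.inl (hpsl h1 h2)
    · obtain ⟨m, F, hF1, hF2, hcard, hpm, hiso⟩ := psl_of_isSL2Cfg hp h3 hcfg2
      exact Or.inr ⟨m, F, hF1, hF2, hcard, hpm, h3, hiso⟩

end core

/-- **Brauer 1943** (statement S0996) -/
theorem brauer43 {G : Type u} [Group G] [Finite G] {p : ℕ} [Fact p.Prime]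
    (hperf : commutator G = ⊤) (z : G) (hz : orderOf z = p)
    (hC : Subgroup.centralizer ({z} : Set G) = Subgroup.zpowers z)
    (hn : 2 * Nat.card (Sylow p G) < (p + 1) * (p + 2)) :
    (∃ (F : Type) (_ : Field F) (_ : Fintype F), Fintype.card F = p ∧ 3 < p ∧
      Nonempty (G ≃* Matrix.ProjectiveSpecialLinearGroup (Fin 2) F)) ∨
    (∃ (m : ℕ) (F : Type) (_ : Field F) (_ : Fintype F), Fintype.card F = 2 ^ m ∧
      p = 2 ^ m + 1 ∧ 3 < p ∧ Nonempty (G ≃* Matrix.ProjectiveSpecialLinearGroup (Fin 2) F)) := by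
  classical
  let _ : Fintype G := Fintype.ofFinite G
  have hp : p.Prime := Fact.out
  obtain ⟨P, e, n, hPz, hP, hcen, hN, he, hedvd, hS, hn1, hodd⟩ := setup hperf z hz hC
  let _ : Fintype (P : Subgroup G) := Fintype.ofFinite _
  have hC' : cen P = (P : Subgroup G) := hcen
  obtain ⟨D⟩ := exists_L0Data P hP hC'
  have hs : (nor P).index = 1 + n * p := by
    rw [nor_eq_Nz P hC', ← hS]
    exact (Sylow.card_eq_index_normalizer P).symm
  have hn2 : 2 * n ≤ p + 1 := by
    rw [hS] at hn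
    by_contra hcon
    push Not at hcon
    have h2 : p + 3 ≤ 2 * n := by
      rcases hp.eq_two_or_odd with h | h
      · exact absurd h hodd
      · omega
    have h3 : (p + 3) * p ≤ 2 * n * p := Nat.mul_le_mul_right p h2
    nlinarith
  obtain ⟨he1, hedvd', helt⟩ := e_basic P hP
  obtain ⟨t, ht⟩ := hedvd'
  have hte : t * (cen P).relIndex (nor P) = p - 1 := by rw [ht, mul_comm]
  have hp3 : 3 ≤ p := by
    have := hp.two_le
    omega
  have hne := t_ne_one P D hP hC' hperf hp3 n hs hn1 hn2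
  have ht2 : 2 ≤ t := by
    have h0 : t ≠ 0 := by
      intro h0
      rw [h0, zero_mul] at hte
      omega
    have h1 : t ≠ 1 := by
      intro h1
      rw [h1, one_mul] at hte
      exact hne hte
    omega
  have hcfg := configConcl_main P D hP hC' hperf n hs hn1 hn2 t hte ht2
  rcases brauer_core P D hperf hP hC' n t hs hn1 hte ht2 hcfg with ⟨h3, ⟨iso⟩⟩ | h
  · exact Or.inl ⟨ZMod p, inferInstance, inferInstance, ZMod.card p, h3, ⟨iso⟩⟩
  · exact Or.inr h

end Cfsg.Agent.Helper77.BrPG
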