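import Mathlib

/-!
# Brauer 1943 (S0996), the pure group theory part ("theorem PG"): definitions.

`P` a Sylow `p`-subgroup of order `p` with `C_G(P) = P`; `Ω = Sylow p G` with the conjugation
action, `G_Q = N_G(Q)`; all two-point stabilizers `N_G(Q) ∩ N_G(Q')` have order `e`.
-/

set_option autoImplicit false

namespace Cfsg.Agent.Helper77.BrPG

open scoped Pointwise

universe u

variable {G : Type u} [Group G] {p : ℕ} [Fact p.Prime]

/-- `N_G(Q)`, the stabilizer of the point `Q` of `Ω = Sylow p G` -/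
abbrev Nz (Q : Sylow p G) : Subgroup G := Subgroup.normalizer ((Q : Subgroup G) : Set G)

/-- `N_G(Q) ∩ N_G(Q')`, the two-point stabilizer -/
abbrev Ez (Q Q' : Sylow p G) : Subgroup G := Nz Q ⊓ Nz Q'

/-- The situation of theorem PG: `|P| = p` odd, `C_G(P) = P`, `|N_G(P)| = p e` with `e ≥ 2`,
`|Syl_p G| = 1 + n p` with `n ≥ 1`, and all two-point stabilizers `N_G(P) ∩ N_G(Q)` (`Q ≠ P`)
have order `e` (equivalently: `N_G(P)` has exactly `n` orbits on `Syl_p G \ {P}`). -/
structure IsBr (P : Sylow p G) (e n : ℕ) : Prop where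
  odd : p ≠ 2
  cardP : Nat.card P = p
  cen : Subgroup.centralizer ((P : Subgroup G) : Set G) = (P : Subgroup G)
  cardN : Nat.card (Nz P) = p * e
  he : 2 ≤ e
  cardS : Nat.card (Sylow p G) = 1 + n * p
  hn : 1 ≤ n
  two : ∀ Q : Sylow p G, Q ≠ P → Nat.card (Ez P Q) = e

/-- the configuration of `SL₂(2^m)`: an elementary abelian `S` of order `p - 1`, equal to the
centralizer of each of its involutions, all of them conjugate; `|G| = p (p-1) (p-2)`. -/
def IsSL2Cfg (p : ℕ) (G : Type u) [Group G] : Prop :=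
  Nat.card G = p * (p - 1) * (p - 2) ∧ ∃ S : Subgroup G, Nat.card S = p - 1 ∧
    (∀ x ∈ S, x ^ 2 = 1) ∧ (∀ x ∈ S, x ≠ 1 → Subgroup.centralizer ({x} : Set G) = S) ∧
    (∀ x ∈ S, ∀ y ∈ S, x ≠ 1 → y ≠ 1 → IsConj x y)

end Cfsg.Agent.Helper77.BrPG
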