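import Cfsg.Agent.Helper57.BH.Defs
import Cfsg.Agent.Helper15.IndChar

/-!
# Brauer 1943 (S0996): perfect groups with a self-centralizing Sylow subgroup of prime order
and few Sylow subgroups.  Definitions shared by all layers.

`P` a Sylow `p`-subgroup of order `p` with `C_G(P) = P`, `N = N_G(P)`, `e = |N : P|`,
`s = |G : N| = 1 + n p`.
-/

set_option autoImplicit false

namespace Cfsg.Agent.Helper77.Br43

open Cfsg Cfsg.Agent.Helper16 Cfsg.Agent.Helper16.DefOne Cfsg.Agent.Helper82.DefOne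
  Cfsg.Agent.Helper77.DefOne
open scoped ComplexConjugate

universe u

variable {G : Type u} [Group G] [Fintype G] {p : ℕ} [Fact p.Prime] (P : Sylow p G)

/-- `N_G(P)` -/
abbrev NP : Subgroup G := Subgroup.normalizer ((P : Subgroup G) : Set G)

/-- `e = |N_G(P)| / p` -/
noncomputable def eN : ℕ := Nat.card (NP P) / p

/-- `s = |G : N_G(P)|`, the number of Sylow `p`-subgroups -/
noncomputable def sN : ℕ := (NP P).index

/-- `R(F) = (1/p) Σ_{x ∈ P} F x`: the multiplicity of `1_P` in `F|_P`. -/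
noncomputable def RP (F : G → ℂ) : ℂ :=
  (p : ℂ)⁻¹ * ∑ᶠ x ∈ ((P : Subgroup G) : Set G), F x

/-- `|F|²` as a function -/
def normSqFun (F : G → ℂ) : G → ℂ := fun g => F g * conj (F g)

/-- The block data of a group with a self-centralizing Sylow subgroup of order `p`:
every irreducible character is in `X` (value `εX χ = ±1` on `P \ 1`), in `Y` (the exceptional
family) or vanishes on `P \ 1`. -/
structure IsStarData (e : ℕ) (X Y : Set (IrrCharacter G)) (εX : IrrCharacter G → ℤ) (ε : ℤ) :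
    Prop where
  disj : Disjoint X Y
  cardX : Nat.card X = e
  cardY : Nat.card Y * e = p - 1
  oneX : oneIrrG G ∈ X
  sgnOne : εX (oneIrrG G) = 1
  sgnX : ∀ χ ∈ X, εX χ = 1 ∨ εX χ = -1
  sgn : ε = 1 ∨ ε = -1
  valX : ∀ χ ∈ X, ∀ x : G, x ∈ (P : Subgroup G) → x ≠ 1 → (χ : G → ℂ) x = (εX χ : ℂ)
  valZ : ∀ χ : IrrCharacter G, χ ∉ X → χ ∉ Y → ∀ x : G, x ∈ (P : Subgroup G) → x ≠ 1 →
    (χ : G → ℂ) x = 0
  sumY : ∀ x : G, x ∈ (P : Subgroup G) → x ≠ 1 → ∑ᶠ θ ∈ Y, (θ : G → ℂ) x = -(ε : ℂ)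
  degY : ∀ θ ∈ Y, ∃ b : ℕ, (charDegree (θ : G → ℂ) : ℤ) = ε * e + b * p ∧
    RP P (θ : G → ℂ) = b ∧
    RP P (normSqFun (θ : G → ℂ)) = (e : ℂ) * ((b : ℂ) + ε) ^ 2 + ((p : ℂ) - e) * (b : ℂ) ^ 2
  regY : ∀ θ ∈ Y, ∀ θ' ∈ Y, ∀ g : G, ¬ p ∣ orderOf g → (θ : G → ℂ) g = (θ' : G → ℂ) g
  rel : ∀ θ ∈ Y, ∀ g : G, ¬ p ∣ orderOf g →
    (ε : ℂ) * (θ : G → ℂ) g = ∑ᶠ χ ∈ X, (εX χ : ℂ) * (χ : G → ℂ) g

/-- the linear characters of `N_G(P)` that are trivial on `P`, as a subgroup of the dual group -/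
def Lin : Subgroup (NP P →* ℂˣ) where
  carrier := {μ | ∀ x : NP P, (x : G) ∈ (P : Subgroup G) → μ x = 1}
  mul_mem' := by
    intro a b ha hb x hx
    rw [MonoidHom.mul_apply, ha x hx, hb x hx, one_mul]
  one_mem' := by
    intro x _
    rfl
  inv_mem' := by
    intro a ha x hx
    rw [MonoidHom.inv_apply, ha x hx, inv_one]

/-- a homomorphism to `ℂˣ` as a complex function -/
def linFun {H : Type*} [Group H] (μ : H →* ℂˣ) : H → ℂ := fun y => ((μ y : ℂˣ) : ℂ)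

/-- the same as a monoid homomorphism to `ℂ` (to use `Helper38`'s Mackey lemmas) -/
def linHom {H : Type*} [Group H] (μ : H →* ℂˣ) : H →* ℂ := (Units.coeHom ℂ).comp μ

/-- `π_μ = Ind_N^G μ` -/
noncomputable def piChar (μ : NP P →* ℂˣ) : G → ℂ := indFun (NP P) (linFun μ)

/-- `c_μ(F) = ⟨F, π_μ⟩ = ⟨F|_N, μ⟩` -/
noncomputable def cMult (μ : NP P →* ℂˣ) (F : G → ℂ) : ℂ := classInner F (piChar P μ)

/-- `g` normalizes some Sylow `p`-subgroup (it has a fixed point on `Syl_p(G)`) -/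
def HasFix (_P : Sylow p G) (g : G) : Prop := ∃ Q : Sylow p G, g ∈ Subgroup.normalizer ((Q : Subgroup G) : Set G)

end Cfsg.Agent.Helper77.Br43
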