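import Cfsg.Agent.Helper77.Br43.PGDefs
import Cfsg.Agent.Helper5.BrPG.W1
import Cfsg.Agent.Helper5.BrPG.W2
import Cfsg.Agent.Helper59.BrPG.W5
import Cfsg.Agent.Helper62.BrPG.W11
import Cfsg.Agent.Helper62.BrPG.W12
import Cfsg.Agent.Helper68.BrPG.W10
import Cfsg.Agent.Helper68.BrPG.W15
import Cfsg.Agent.Helper72.BrPG.W13
import Cfsg.Agent.Helper10.BrPG.W7
import Cfsg.Agent.Helper10.BrPG.W8
import Cfsg.Agent.Helper72.BrPG.W9

/-!
# Theorem PG (pure group theory part of S0996): assembly of the work packages.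
-/

set_option autoImplicit false

namespace Cfsg.Agent.Helper77.BrPG

open scoped Pointwise

universe u

variable {G : Type u} [Group G] [Finite G] {p : ℕ} [Fact p.Prime]

/-! ## the work packages, under the skeleton names -/

theorem IsBr.normalizer_Ez_inf {P : Sylow p G} {e n : ℕ} (h : IsBr P e n) (Q : Sylow p G)
    (hQ : Q ≠ P) : Subgroup.normalizer ((Ez P Q : Subgroup G) : Set G) ⊓ Nz P = Ez P Q :=
  Cfsg.Agent.Helper10.BrPG.IsBr.normalizer_Ez_inf h Q hQ

theorem IsBr.card_normalizer_Ez {P : Sylow p G} {e n : ℕ} (h : IsBr P e n) (Q : Sylow p G)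
    (hQ : Q ≠ P) :
    Nat.card (Subgroup.normalizer ((Ez P Q : Subgroup G) : Set G)) = (n + 1) * e :=
  Cfsg.Agent.Helper72.BrPG.IsBr.card_normalizer_Ez h Q hQ

theorem IsBr.centralizer_le_normalizer_Ez {P : Sylow p G} {e n : ℕ} (h : IsBr P e n)
    (Q : Sylow p G) (hQ : Q ≠ P) (w : G) (hw : w ∈ Ez P Q) (hw1 : w ≠ 1) :
    Subgroup.centralizer ({w} : Set G) ≤ Subgroup.normalizer ((Ez P Q : Subgroup G) : Set G) :=
  Cfsg.Agent.Helper72.BrPG.IsBr.centralizer_le_normalizer_Ez h Q hQ w hw hw1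

theorem IsBr.Ez_smul_eq {P : Sylow p G} {e n : ℕ} (h : IsBr P e n) (Q : Sylow p G) (hQ : Q ≠ P)
    (l : G) (hl : l ∈ Subgroup.normalizer ((Ez P Q : Subgroup G) : Set G)) (hlE : l ∉ Ez P Q) :
    l • P ≠ P ∧ Ez P (l • P) = Ez P Q :=
  Cfsg.Agent.Helper10.BrPG.IsBr.Ez_smul_eq h Q hQ l hl hlE

theorem IsBr.invol_count {P : Sylow p G} {e n : ℕ} (h : IsBr P e n) (hte : (n + 1) * e = p - 1)
    (Q : Sylow p G) (hQ : Q ≠ P) (z : G) (hz : z ∈ Ez P Q) (hz2 : orderOf z = 2) :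
    (∀ g : G, orderOf g = 2 → IsConj z g) ∧
    Subgroup.centralizer ({z} : Set G) = Subgroup.normalizer ((Ez P Q : Subgroup G) : Set G) ∧
    (∀ Q' : Sylow p G, Q' ≠ P → Nat.card {g : G // orderOf g = 2 ∧ g • P = Q'} = e) :=
  Cfsg.Agent.Helper72.BrPG.IsBr.invol_count h hte
    (Cfsg.Agent.Helper10.BrPG.IsBr.card_fixed h)
    (h.card_normalizer_Ez) (h.centralizer_le_normalizer_Ez)
    (Cfsg.Agent.Helper68.BrPG.IsBr.card_G h)
    (fun _ h' => Cfsg.Agent.Helper62.BrPG.IsBr.card_invol_le h'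
      (fun Q hQ => h'.normalizer_Ez_inf Q hQ)) Q hQ z hz hz2

/-! ## the final steps -/

/-- (PG7d) all elements of `N_G(E) \ E` are involutions -/
theorem IsBr.orderOf_eq_two_of_mem_normalizer {P : Sylow p G} {e n : ℕ} (h : IsBr P e n)
    (hte : (n + 1) * e = p - 1)
    (Q : Sylow p G) (hQ : Q ≠ P) (z : G) (hz : z ∈ Ez P Q) (hz2 : orderOf z = 2) (l : G)
    (hl : l ∈ Subgroup.normalizer ((Ez P Q : Subgroup G) : Set G)) (hlE : l ∉ Ez P Q) :
    orderOf l = 2 := by
  obtain ⟨_, _, hcnt⟩ := h.invol_count hte Q hQ z hz hz2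
  obtain ⟨hne, hEz⟩ := h.Ez_smul_eq Q hQ l hl hlE
  have hc := hcnt (l • P) hne
  refine Cfsg.Agent.Helper62.BrPG.IsBr.orderOf_eq_two_of_card_invol h
    (fun Q hQ => h.normalizer_Ez_inf Q hQ) (l • P) hne hc l ?_ rfl
  rw [hEz]
  exact hl

omit [Finite G] in
/-- an elementary abelian 2-subgroup is commutative -/
theorem commute_of_sq_eq_one' (S : Subgroup G) (hexp : ∀ x ∈ S, x ^ 2 = 1) (a b : G) (ha : a ∈ S)
    (hb : b ∈ S) : a * b = b * a := by
  have h1 := hexp a ha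
  have h2 := hexp b hb
  have h3 := hexp (a * b) (S.mul_mem ha hb)
  have ha' : a⁻¹ = a := by
    rw [inv_eq_iff_mul_eq_one, ← pow_two]; exact h1
  have hb' : b⁻¹ = b := by
    rw [inv_eq_iff_mul_eq_one, ← pow_two]; exact h2
  have hab : (a * b)⁻¹ = a * b := by
    rw [inv_eq_iff_mul_eq_one, ← pow_two]; exact h3
  rw [mul_inv_rev, ha', hb'] at hab
  exact hab.symm

omit [Finite G] in
theorem conj_commute_aux (g z c : G) (hc : c * (g * z * g⁻¹) = (g * z * g⁻¹) * c) :
    (g⁻¹ * c * g) * z = z * (g⁻¹ * c * g) := by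
  have h' : g⁻¹ * (c * (g * z * g⁻¹)) * g = g⁻¹ * ((g * z * g⁻¹) * c) * g := by
    rw [hc]
  simpa [mul_assoc] using h'

omit [Finite G] in
theorem IsBr.exists_ne {P : Sylow p G} {e n : ℕ} (h : IsBr P e n) : ∃ Q : Sylow p G, Q ≠ P := by
  have hp : p.Prime := Fact.out
  have hn := h.hn
  by_contra hcon
  push Not at hcon
  have : Nat.card (Sylow p G) = 1 := by
    rw [Nat.card_eq_one_iff_unique]
    exact ⟨⟨fun a b => (hcon a).trans (hcon b).symm⟩, ⟨P⟩⟩
  rw [h.cardS] at this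
  have : n * p = 0 := by omega
  have hp0 := hp.pos
  rcases Nat.mul_eq_zero.mp this with h0 | h0 <;> omega

/-- (PG8b) the case `e = 2` -/
theorem IsBr.isSL2Cfg {P : Sylow p G} {e n : ℕ} (h : IsBr P e n) (hte : (n + 1) * e = p - 1)
    (he2 : e = 2) : 3 < p ∧ IsSL2Cfg p G := by
  classical
  have hp : p.Prime := Fact.out
  have hn := h.hn
  subst he2
  have hp' : p = 2 * n + 3 := by omega
  refine ⟨by omega, ?_⟩
  obtain ⟨Q, hQ⟩ := h.exists_ne
  have hE := h.two Q hQ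
  -- the involution of E
  obtain ⟨z, hzE, hz1⟩ : ∃ z ∈ Ez P Q, z ≠ 1 := by
    by_contra hcon
    push Not at hcon
    have : Ez P Q = ⊥ := by
      rw [Subgroup.eq_bot_iff_forall]
      exact hcon
    rw [this, Subgroup.card_bot] at hE
    omega
  have hsqE : ∀ x ∈ Ez P Q, x ^ 2 = 1 := by
    intro x hx
    have := pow_card_eq_one' (G := Ez P Q) (x := ⟨x, hx⟩)
    rw [hE] at this
    have h' := congrArg Subtype.val this
    simpa using h'
  have ho2 : ∀ w : G, w ^ 2 = 1 → w ≠ 1 → orderOf w = 2 := by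
    intro w hw hw1
    have hd : orderOf w ∣ 2 := orderOf_dvd_of_pow_eq_one hw
    have h1 : orderOf w ≠ 1 := by
      rw [Ne, orderOf_eq_one_iff]; exact hw1
    rcases (Nat.dvd_prime Nat.prime_two).mp hd with h' | h'
    · exact absurd h' h1
    · exact h'
  have hz2 : orderOf z = 2 := ho2 z (hsqE z hzE) hz1
  set L := Subgroup.normalizer ((Ez P Q : Subgroup G) : Set G) with hLdef
  have hL := h.card_normalizer_Ez Q hQ
  obtain ⟨hconjz, hCL, _⟩ := h.invol_count hte Q hQ z hzE hz2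
  have hsqL : ∀ x ∈ L, x ^ 2 = 1 := by
    intro x hx
    by_cases hxE : x ∈ Ez P Q
    · exact hsqE x hxE
    · have := h.orderOf_eq_two_of_mem_normalizer hte Q hQ z hzE hz2 x hx hxE
      rw [← this]
      exact pow_orderOf_eq_one x
  refine ⟨?_, L, ?_, hsqL, ?_, ?_⟩
  · rw [Cfsg.Agent.Helper68.BrPG.IsBr.card_G h]
    have h1 : p - 1 = 2 * n + 2 := by omega
    have h2 : p - 2 = 2 * n + 1 := by omega
    rw [h1, h2, hp']
    ring
  · rw [hL, hte]
  · intro x hx hx1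
    have hx2 : orderOf x = 2 := ho2 x (hsqL x hx) hx1
    obtain ⟨g, hg⟩ := isConj_iff.mp (hconjz x hx2)
    have hle : L ≤ Subgroup.centralizer ({x} : Set G) := by
      intro y hy
      rw [Subgroup.mem_centralizer_singleton_iff]
      exact commute_of_sq_eq_one' L hsqL y x hy hx
    have hcard : Nat.card (Subgroup.centralizer ({x} : Set G)) ≤ Nat.card L := by
      rw [hLdef, ← hCL]
      refine Nat.card_le_card_of_injective
        (fun c : Subgroup.centralizer ({x} : Set G) =>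
          (⟨g⁻¹ * c.1 * g, ?_⟩ : Subgroup.centralizer ({z} : Set G))) ?_
      · rw [Subgroup.mem_centralizer_singleton_iff]
        have hc : c.1 * (g * z * g⁻¹) = (g * z * g⁻¹) * c.1 := by
          rw [hg]
          exact Subgroup.mem_centralizer_singleton_iff.mp c.2
        exact conj_commute_aux g z c.1 hc
      · intro c c' hcc
        have h' := congrArg Subtype.val hcc
        simp only at h'
        apply Subtype.ext
        have h'' := congrArg (fun y => g * y * g⁻¹) h'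
        simpa [mul_assoc] using h''
    exact (Subgroup.eq_of_le_of_card_ge hle hcard).symm
  · intro x hx y hy hx1 hy1
    exact (hconjz x (ho2 x (hsqL x hx) hx1)).symm.trans (hconjz y (ho2 y (hsqL y hy) hy1))

/-- **Theorem PG** -/
theorem IsBr.main {P : Sylow p G} {e n : ℕ} (h : IsBr P e n) (a t k : ℕ) (hat : a * t = n + 1)
    (hte : t * e = p - 1) (hek : e = 1 + a * (1 + t * k)) :
    (n = 1 ∧ 2 * e = p - 1) ∨ (3 < p ∧ IsSL2Cfg p G) := by
  classical
  have hp : p.Prime := Fact.out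
  have hn := h.hn
  have he := h.he
  obtain ⟨Q, hQ⟩ := h.exists_ne
  have hE := h.two Q hQ
  set L := Subgroup.normalizer ((Ez P Q : Subgroup G) : Set G) with hLdef
  have hL := h.card_normalizer_Ez Q hQ
  have hdvd : (n + 1) * e ∣ p * e * (1 + n * p) := by
    rw [← hL, ← Cfsg.Agent.Helper68.BrPG.IsBr.card_G h]
    exact Subgroup.card_subgroup_dvd_card _
  obtain ⟨ha, heven⟩ :=
    Cfsg.Agent.Helper68.BrPG.arith_a_eq_one p e n a t k hp h.odd hdvd hat hte hek
  subst ha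
  rw [one_mul] at hat
  subst hat
  -- an involution in E
  have : Fact (Nat.Prime 2) := ⟨Nat.prime_two⟩
  obtain ⟨z', hz'⟩ := exists_prime_orderOf_dvd_card' (G := Ez P Q) 2 (by
    rw [hE]; exact heven.two_dvd)
  have hz2 : orderOf (z' : G) = 2 := by
    rw [Subgroup.orderOf_coe]; exact hz'
  have hinv : ∀ l ∈ L, l ∉ Ez P Q → orderOf l = 2 := fun l hl hlE =>
    h.orderOf_eq_two_of_mem_normalizer hte Q hQ z' z'.2 hz2 l hl hlE
  have hcyc := (Cfsg.Agent.Helper59.BrPG.isCyclic_of_inf_eq_bot P h.cardP h.cen e h.cardN (Ez P Q)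
    inf_le_left (Cfsg.Agent.Helper5.BrPG.Ez_inf_eq_bot P h.cardP Q hQ)).1
  rcases Cfsg.Agent.Helper68.BrPG.index_le_two_or_card_le_two L (Ez P Q) Subgroup.le_normalizer
    hcyc hinv with h1 | h1
  · left
    rw [hL, hE] at h1
    have : n + 1 ≤ 2 := by
      by_contra hcon
      push Not at hcon
      have : 3 * e ≤ (n + 1) * e := Nat.mul_le_mul_right e hcon
      omega
    have hn1 : n = 1 := by omega
    subst hn1
    exact ⟨rfl, by omega⟩
  · right
    rw [hE] at h1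
    exact h.isSL2Cfg hte (by omega)

/-- from the rank sum to `IsBr` -/
theorem isBr_of_sum (P : Sylow p G) (e n : ℕ) (hodd : p ≠ 2) (hP : Nat.card P = p)
    (hcen : Subgroup.centralizer ((P : Subgroup G) : Set G) = (P : Subgroup G))
    (hN : Nat.card (Nz P) = p * e) (he : 2 ≤ e) (hS : Nat.card (Sylow p G) = 1 + n * p)
    (hn : 1 ≤ n)
    (hsum : ∑ᶠ g : G, Nat.card ↥(Nz P ⊓ MulAut.conj g • Nz P) = (n + 1) * (p * e) ^ 2) :
    IsBr P e n :=
  ⟨hodd, hP, hcen, hN, he, hS, hn, Cfsg.Agent.Helper68.BrPG.card_Ez_of_sum P e n hP hcen hN hS hsum⟩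

end Cfsg.Agent.Helper77.BrPG
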